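import Mathlib
import Cfsg.Agent.Block.CycTI

/-! Values of the irreducible characters on the `p`-sections for a cyclic T.I. Sylow subgroup. -/

set_option autoImplicit false

namespace Cfsg.Agent.JTW

open Subgroup Cfsg Cfsg.Agent.Block

variable {G : Type*} [Group G] [Finite G] {p : ℕ} [hp : Fact p.Prime]

theorem cyc_TI_values' {P : Subgroup G} (hP : IsPGroup p P) (hi : ¬ p ∣ P.index) (hc : IsCyclic P)
    (hC : ∀ x ∈ P, x ≠ 1 → centralizer ({x} : Set G) = centralizer (P : Set G))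
    (χ : IrrCharacter G) :
    (∀ x ∈ P, x ≠ 1 → ∀ y ∈ centralizer (P : Set G), ¬ p ∣ orderOf y →
      (χ : G → ℂ) (x * y) = 0) ∨
    ∃ (θ : G → ℂ) (δ : ℤ), IsIrrCharacter (centralizer (P : Set G)) (fun y => θ y) ∧
      (∀ x ∈ P, θ x = θ 1) ∧ (δ = 1 ∨ δ = -1) ∧
      ((∀ x ∈ P, x ≠ 1 → ∀ y ∈ centralizer (P : Set G), ¬ p ∣ orderOf y →
          (Nat.card {n : normalizer (P : Set G) //
            ∀ z ∈ centralizer (P : Set G), θ (n * z * n⁻¹) = θ z} : ℂ) * (χ : G → ℂ) (x * y) =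
            δ * ∑ᶠ n : normalizer (P : Set G), θ (n * y * n⁻¹)) ∨
        ∃ lam : G → ℂ, (∀ a ∈ P, ∀ b ∈ P, lam (a * b) = lam a * lam b) ∧ lam 1 = 1 ∧
          (∃ a ∈ P, lam a ≠ 1) ∧
          ∀ x ∈ P, x ≠ 1 → ∀ y ∈ centralizer (P : Set G), ¬ p ∣ orderOf y →
            (Nat.card (centralizer (P : Set G)) : ℂ) * (χ : G → ℂ) (x * y) =
              δ * ∑ᶠ n : normalizer (P : Set G), lam (n * x * n⁻¹) * θ (n * y * n⁻¹)) :=
  values_of_cyclic_ti hP hi hc hC χ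

end Cfsg.Agent.JTW
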