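import Mathlib

/-! Arithmetic of the signed degrees, the case `ℓ = 7`. -/

set_option autoImplicit false

namespace Cfsg.Agent.JTW

theorem AB.form_eq_zero {a b c X Y : ℤ} (h : a * X ^ 2 + b * X * Y + c * Y ^ 2 = 0)
    (hd : ¬ IsSquare (((b ^ 2 - 4 * a * c : ℤ)) : ZMod 7)) : X = 0 ∧ Y = 0 := by
  have key : ∀ z : ℤ, b ^ 2 - 4 * a * c ≠ z ^ 2 := fun z hz => hd ⟨z, by rw [hz]; push_cast; ring⟩
  have hY : Y = 0 := by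
    by_contra hY
    have h1 : (2 * a * X + b * Y) ^ 2 = Y ^ 2 * (b ^ 2 - 4 * a * c) := by
      linear_combination 4 * a * h
    obtain ⟨z, hz⟩ := (Int.pow_dvd_pow_iff two_ne_zero).1 ⟨_, h1⟩
    rw [hz, mul_pow] at h1
    exact key z (mul_left_cancel₀ (pow_ne_zero 2 hY) h1).symm
  refine ⟨?_, hY⟩
  have ha : a ≠ 0 := fun ha => key b (by rw [ha]; ring)
  subst hY
  simpa [ha] using h

theorem arith_B' {Q ξ a₁ a₂ x₁ x₂ y₁ y₂ : ℤ} (hQ : Q ≠ 1) (h0 : 7 ∣ Q - 1) (h1 : 7 ∣ ξ - 1)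
    (h2 : 7 ∣ x₁ - 1) (h3 : 7 ∣ x₂ - 1) (h4 : 7 ∣ a₁ + 3) (h5 : 7 ∣ a₂ + 3)
    (h6 : 49 ∣ y₁ - Q * a₁) (h7 : 49 ∣ y₂ - Q * a₂) (s1 : x₁ + y₁ = 1 + a₁) (s2 : x₂ + y₂ = ξ + a₂)
    (e : (1 + 1 / a₁ - (Q ^ 2 / x₁ + Q ^ 2 / y₁) : ℚ) = 1 / ξ + 1 / a₂ - (Q ^ 2 / x₂ + Q ^ 2 / y₂))
    (eb : (-(1 / a₁) - Q ^ 2 / y₁ + 2 * (-(1 / a₂) - Q ^ 2 / y₂) +
      (3 * (1 + Q)) ^ 2 / (a₁ + y₁ + 2 * (a₂ + y₂)) : ℚ) = 0)
    (hc : a₁ = a₂ ∨ x₁ = x₂ ∨ y₁ = y₂) : ξ = 1 := by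
  clear h6 h7
  have cast : ∀ (z r : ℤ), 7 ∣ z - r → (z : ZMod 7) = r := fun z r h =>
    ((ZMod.intCast_eq_intCast_iff_dvd_sub r z 7).2 h).symm
  have mQ : (Q : ZMod 7) = 1 := by simpa using cast Q 1 h0
  have mξ : (ξ : ZMod 7) = 1 := by simpa using cast ξ 1 h1
  have ma₁ : (a₁ : ZMod 7) = 4 := by simpa using cast a₁ 4 (by omega)
  have ma₂ : (a₂ : ZMod 7) = 4 := by simpa using cast a₂ 4 (by omega)
  have my₁ : (y₁ : ZMod 7) = 4 := by simpa using cast y₁ 4 (by omega)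
  have my₂ : (y₂ : ZMod 7) = 4 := by simpa using cast y₂ 4 (by omega)
  have nξ : (ξ : ℚ) ≠ 0 := by exact_mod_cast (by omega : ξ ≠ 0)
  have na₁ : (a₁ : ℚ) ≠ 0 := by exact_mod_cast (by omega : a₁ ≠ 0)
  have na₂ : (a₂ : ℚ) ≠ 0 := by exact_mod_cast (by omega : a₂ ≠ 0)
  have nx₁ : (x₁ : ℚ) ≠ 0 := by exact_mod_cast (by omega : x₁ ≠ 0)
  have nx₂ : (x₂ : ℚ) ≠ 0 := by exact_mod_cast (by omega : x₂ ≠ 0)
  have ny₁ : (y₁ : ℚ) ≠ 0 := by exact_mod_cast (by omega : y₁ ≠ 0)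
  have ny₂ : (y₂ : ℚ) ≠ 0 := by exact_mod_cast (by omega : y₂ ≠ 0)
  have nS : (a₁ + y₁ + 2 * (a₂ + y₂) : ℚ) ≠ 0 := by
    exact_mod_cast (by omega : a₁ + y₁ + 2 * (a₂ + y₂) ≠ 0)
  have E : (a₂ * y₁ * y₂ + Q ^ 2 * a₁ * a₂ * y₂ + 2 * a₁ * y₁ * y₂ + 2 * Q ^ 2 * a₁ * a₂ * y₁) *
      (a₁ + y₁ + 2 * (a₂ + y₂)) = (3 * (1 + Q)) ^ 2 * (a₁ * a₂ * y₁ * y₂) := by
    have : ((a₂ * y₁ * y₂ + Q ^ 2 * a₁ * a₂ * y₂ + 2 * a₁ * y₁ * y₂ + 2 * Q ^ 2 * a₁ * a₂ * y₁) *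
        (a₁ + y₁ + 2 * (a₂ + y₂)) : ℚ) = (3 * (1 + Q)) ^ 2 * (a₁ * a₂ * y₁ * y₂) := by
      generalize (a₁ + y₁ + 2 * (a₂ + y₂) : ℚ) = S at eb nS
      field_simp at eb
      linear_combination -eb
    exact_mod_cast this
  have E' : (y₁ - Q * a₁) ^ 2 * (a₂ * y₂) + 2 * (a₂ - a₁) ^ 2 * (y₁ * y₂) +
      2 * (y₂ - Q * a₁) ^ 2 * (a₂ * y₁) + 2 * (Q * a₂ - y₁) ^ 2 * (a₁ * y₂) +
      2 * Q ^ 2 * (y₂ - y₁) ^ 2 * (a₁ * a₂) + 4 * (y₂ - Q * a₂) ^ 2 * (a₁ * y₁) = 0 := by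
    linear_combination E
  have fin : a₁ = a₂ → y₁ = Q * a₁ → y₂ = Q * a₂ → ξ = 1 := by
    rintro rfl rfl rfl
    by_contra hξ
    have e1 : (ξ - 1) * (x₁ * x₂ - Q ^ 2 * ξ) = 0 := by
      have e2 : (x₂ : ℚ) - x₁ = ξ - 1 := by exact_mod_cast (by omega : x₂ - x₁ = ξ - 1)
      have : ((ξ - 1) * (x₁ * x₂ - Q ^ 2 * ξ) : ℚ) = 0 := by
        have e3 : (1 - Q ^ 2 / x₁ : ℚ) = 1 / ξ - Q ^ 2 / x₂ := by linear_combination e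
        field_simp at e3
        linear_combination e3 + Q ^ 2 * ξ * e2
      exact_mod_cast this
    have e2 := (mul_eq_zero.1 e1).resolve_left (sub_ne_zero.2 hξ)
    have e3 : (1 - Q) * (ξ * (a₁ + 1 + Q) + a₁ * (1 + a₁ * (1 - Q))) = 0 := by
      rw [show x₁ = 1 + a₁ - Q * a₁ by omega, show x₂ = ξ + a₁ - Q * a₁ by omega] at e2
      linear_combination e2
    have e4 := congrArg (Int.cast : ℤ → ZMod 7)
      ((mul_eq_zero.1 e3).resolve_left (sub_ne_zero.2 hQ.symm))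
    push_cast at e4
    rw [mQ, mξ, ma₁] at e4
    exact absurd e4 (by decide)
  rcases hc with rfl | rfl | rfl
  · obtain ⟨k1, k2⟩ := AB.form_eq_zero (X := y₁ - Q * a₁) (Y := y₂ - Q * a₁)
      (a := 3 * a₁ * y₂ + 2 * Q ^ 2 * a₁ * a₁) (b := -4 * Q ^ 2 * a₁ * a₁)
      (c := 6 * a₁ * y₁ + 2 * Q ^ 2 * a₁ * a₁) (by linear_combination E')
      (by push_cast; rw [mQ, ma₁, my₁, my₂]; decide)
    exact fin rfl (by omega) (by omega)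
  · obtain ⟨U, hU⟩ : ∃ U, U = a₁ * a₂ * (y₁ * y₂ - Q ^ 2 * ξ) := ⟨_, rfl⟩
    obtain ⟨V, hV⟩ : ∃ V, V = (Q - 1) * a₁ * a₂ * y₁ * y₂ + ξ * y₁ * y₂ - Q ^ 3 * ξ * a₁ * a₂ :=
      ⟨_, rfl⟩
    have mU : (U : ZMod 7) = 2 := by rw [hU]; push_cast; rw [mQ, mξ, ma₁, ma₂, my₁, my₂]; decide
    have mV : (V : ZMod 7) = 0 := by rw [hV]; push_cast; rw [mQ, mξ, ma₁, ma₂, my₁, my₂]; decide
    have nU : U ≠ 0 := by rintro rfl; exact absurd mU (by decide)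
    have e1 : U * (y₂ - Q * a₂) = U * (y₁ - Q * a₁) - V * (a₂ - a₁) := by
      have e2 : ξ - 1 = y₂ - y₁ - (a₂ - a₁) := by omega
      have e3 : (ξ - 1) * a₁ * a₂ * y₁ * y₂ + (a₂ - a₁) * ξ * y₁ * y₂ -
          Q ^ 2 * (y₂ - y₁) * ξ * a₁ * a₂ = 0 := by
        have : ((ξ - 1) * a₁ * a₂ * y₁ * y₂ + (a₂ - a₁) * ξ * y₁ * y₂ -
            Q ^ 2 * (y₂ - y₁) * ξ * a₁ * a₂ : ℚ) = 0 := by
          have e4 : (1 + 1 / a₁ - Q ^ 2 / y₁ : ℚ) = 1 / ξ + 1 / a₂ - Q ^ 2 / y₂ := by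
            linear_combination e
          field_simp at e4
          linear_combination e4
        exact_mod_cast this
      rw [hU, hV]
      linear_combination e3 - a₁ * a₂ * y₁ * y₂ * e2
    obtain ⟨k1, k2⟩ := AB.form_eq_zero (X := U * (y₁ - Q * a₁)) (Y := a₂ - a₁)
      (a := a₂ * y₂ + 2 * a₂ * y₁ + 2 * a₁ * y₂ + 4 * a₁ * y₁)
      (b := 4 * (Q * U - V) * a₂ * y₁ - 4 * Q * U * a₁ * y₂ - 8 * V * a₁ * y₁)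
      (c := 2 * U ^ 2 * y₁ * y₂ + 2 * (Q * U - V) ^ 2 * a₂ * y₁ + 2 * (Q * U) ^ 2 * a₁ * y₂ +
        2 * Q ^ 2 * (Q * U - V) ^ 2 * a₁ * a₂ + 4 * V ^ 2 * a₁ * y₁)
      (by
        have f1 : U * (y₂ - Q * a₁) = U * (y₁ - Q * a₁) + (Q * U - V) * (a₂ - a₁) := by
          linear_combination e1
        have f2 : U * (y₂ - y₁) = (Q * U - V) * (a₂ - a₁) := by linear_combination e1
        have f3 : (U * (y₁ - Q * a₁)) ^ 2 * (a₂ * y₂) + 2 * (U * (a₂ - a₁)) ^ 2 * (y₁ * y₂) +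
            2 * (U * (y₂ - Q * a₁)) ^ 2 * (a₂ * y₁) +
            2 * (Q * U * (a₂ - a₁) - U * (y₁ - Q * a₁)) ^ 2 * (a₁ * y₂) +
            2 * Q ^ 2 * (U * (y₂ - y₁)) ^ 2 * (a₁ * a₂) +
            4 * (U * (y₂ - Q * a₂)) ^ 2 * (a₁ * y₁) = 0 := by linear_combination U ^ 2 * E'
        rw [f1, f2, e1] at f3
        linear_combination f3)
      (by push_cast; rw [mQ, mU, mV, ma₁, ma₂, my₁, my₂]; decide)
    rw [k1, k2] at e1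
    have k3 := (mul_eq_zero.1 k1).resolve_left nU
    have k4 := (mul_eq_zero.1 (by simpa using e1 : U * (y₂ - Q * a₂) = 0)).resolve_left nU
    exact fin (by omega) (by omega) (by omega)
  · obtain ⟨k1, k2⟩ := AB.form_eq_zero (X := y₁ - Q * a₁) (Y := a₂ - a₁)
      (a := 3 * a₂ * y₁ + 6 * a₁ * y₁) (b := -12 * Q * a₁ * y₁)
      (c := 2 * y₁ * y₁ + 6 * Q ^ 2 * a₁ * y₁) (by linear_combination E')
      (by push_cast; rw [mQ, ma₁, ma₂, my₁]; decide)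
    have : a₁ = a₂ := by omega
    subst this
    exact fin rfl (by omega) (by omega)

end Cfsg.Agent.JTW
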