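import Cfsg.Agent.JTW.J1Pres

/-!
# Finite facts on `2 × A₅` and on `GL₃(2)`
-/

set_option autoImplicit false

namespace Cfsg.Agent.JTW

open Equiv

/-- The group `2 × A₅`. -/
abbrev KK : Type := Multiplicative (ZMod 2) × alternatingGroup (Fin 5)

instance instDecEqKK : DecidableEq KK := inferInstance

def t0 : KK := (Multiplicative.ofAdd 1, 1)
def v0 : KK := (1, ⟨swap 0 1 * swap 2 3, Perm.mem_alternatingGroup.2 (by decide)⟩)
def r0 : KK := (1, ⟨swap 0 1 * swap 1 2, Perm.mem_alternatingGroup.2 (by decide)⟩)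
def u0 : KK := (1, ⟨swap 0 1 * swap 3 4, Perm.mem_alternatingGroup.2 (by decide)⟩)
def s0 : KK := r0 * v0 * u0

/-- The Sylow `2`-subgroup, enumerated. -/
def τ0 : Fin 8 → KK :=
  ![1, t0, v0, t0 * v0, r0⁻¹ * v0 * r0, t0 * r0⁻¹ * v0 * r0, r0 * v0 * r0⁻¹, t0 * r0 * v0 * r0⁻¹]

def xr (i j : Fin 8) : Fin 8 := Fin.ofNat 8 (i.1 ^^^ j.1)

def lin (a b c : Fin 8) : Fin 8 → Fin 8 := ![0, a, b, xr a b, c, xr a c, xr b c, xr a (xr b c)]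

def ρ0 : Fin 8 → Fin 8 := ![0, 1, 4, 5, 6, 7, 2, 3]
def π1 : Fin 8 → Fin 8 := ![0, 2, 6, 4, 5, 7, 3, 1]
def π2 : Fin 8 → Fin 8 := ![0, 2, 4, 6, 3, 1, 7, 5]

/-- The action of a word in `ρ0` and `f`. -/
def wf (f : Fin 8 → Fin 8) : List Bool → Fin 8 → Fin 8
  | [] => id
  | b :: w => wf f w ∘ (if b then f else ρ0)

theorem gl3_dec : ∀ a b c : Fin 8, a ≠ 1 → Function.Injective (lin a b c) →
    (∀ w ∈ [[true, true], [false, false, true, false, true, true], [false, true, false, true],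
      [false, false, true, false, false, true]],
      (∀ i, wf (lin a b c) w (wf (lin a b c) w i) = i) → ∀ i, wf (lin a b c) w i = i) →
    ∃ w ∈ [[false, false, true, false, true, true], [false, false, true, true, false, true],
      [false, true, false, true, true, false], [false, true, true, false, true, false],
      [true, false, true, true, false, false], [true, true, false, true, false, false]],
      wf (lin a b c) w = π1 ∨ wf (lin a b c) w = π2 := by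
  decide +kernel

theorem eq_lin (f : Fin 8 → Fin 8) (h : ∀ i j, f (xr i j) = xr (f i) (f j)) :
    f = lin (f 1) (f 2) (f 4) := by
  have h0 : ∀ i, xr i i = 0 := by decide
  funext i
  fin_cases i
  · exact (h 0 0).trans (h0 _)
  · rfl
  · rfl
  · exact h 1 2
  · rfl
  · exact h 1 4
  · exact h 2 4
  · exact (h 1 6).trans (congrArg _ (h 2 4))

theorem τ0_mul : ∀ i j, τ0 i * τ0 j = τ0 (xr i j) := by decide +kernel
theorem τ0_inj : ∀ i j, τ0 i = τ0 j → i = j := by decide +kernel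
theorem τ0_r0 : ∀ i, r0⁻¹ * τ0 i * r0 = τ0 (ρ0 i) := by decide +kernel
theorem cent_τ0 : ∀ x : KK, x * τ0 2 = τ0 2 * x → x * τ0 4 = τ0 4 * x → ∃ i, x = τ0 i := by
  decide +kernel
theorem u0_not : ∀ i, u0⁻¹ * v0 * u0 ≠ τ0 i := by decide +kernel
theorem center_KK : ∀ x : KK, x * r0 = r0 * x → x * u0 = u0 * x → x * v0 = v0 * x →
    x = 1 ∨ x = t0 := by decide +kernel
theorem t0_comm : ∀ x : KK, x * t0 = t0 * x := by decide +kernel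
theorem card_KK : Nat.card KK = 120 := by
  rw [Nat.card_eq_fintype_card]; decide +kernel
theorem card_inv_KK : Nat.card {x : KK // x * x = 1 ∧ x ≠ 1} = 31 := by
  rw [Nat.card_eq_fintype_card]; decide +kernel
theorem exp_KK : ∀ x : KK, x ^ 6 = 1 ∨ x ^ 10 = 1 := by decide +kernel
theorem cent_r0 : ∀ x : KK, x * r0 = r0 * x → x ^ 6 = 1 ∧ (x * x = 1 → x = 1 ∨ x = t0) := by
  decide +kernel
theorem cent_s0 : ∀ x : KK, x * s0 = s0 * x → x ^ 10 = 1 ∧ (x * x = 1 → x = 1 ∨ x = t0) := by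
  decide +kernel
theorem card_norm_r0 : Nat.card {x : KK // ∃ i < 3, x * r0 * x⁻¹ = r0 ^ i} = 12 := by
  rw [Nat.card_eq_fintype_card]; decide +kernel
theorem card_norm_s0 : Nat.card {x : KK // ∃ i < 5, x * s0 * x⁻¹ = s0 ^ i} = 20 := by
  rw [Nat.card_eq_fintype_card]; decide +kernel
theorem inverted_7 : ∀ y : KK, y ^ 15 = 1 → y ≠ 1 → τ0 7 * y * τ0 7 = y⁻¹ → ∃ k < 5,
    y ^ k = u0 * r0 * v0 * r0⁻¹ ∨ y ^ k = u0 * v0 * r0⁻¹ ∨ y ^ k = v0 * u0 * v0 * r0 ∨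
      y ^ k = v0 * r0⁻¹ * v0 * u0 := by decide +kernel
theorem inverted_2 : ∀ y : KK, y ^ 15 = 1 → y ≠ 1 → τ0 2 * y * τ0 2 = y⁻¹ → ∃ k < 5,
    y ^ k = v0 * u0 * r0 ∨ y ^ k = v0 * u0 * r0⁻¹ ∨ y ^ k = v0 * u0 ∨
      y ^ k = u0 * v0 * r0 * v0 * u0 := by decide +kernel

def wordsA : List (List ℕ) :=
  [[], [2], [3], [4], [7], [2, 3], [2, 4], [2, 7], [3, 2], [3, 7], [4, 2], [4, 7], [7, 2], [2, 3,
    2], [2, 3, 7], [2, 4, 2], [2, 4, 7], [2, 7, 2], [3, 2, 4], [3, 2, 7], [3, 7, 2], [4, 2, 3],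
    [4, 2, 7], [4, 7, 2], [7, 2, 3], [7, 2, 4], [2, 3, 2, 7], [2, 3, 7, 2], [2, 4, 2, 7], [2, 4,
    7, 2], [2, 7, 2, 3], [2, 7, 2, 4], [3, 2, 4, 7], [3, 2, 7, 2], [3, 7, 2, 3], [3, 7, 2, 4], [4,
    2, 3, 7], [4, 2, 7, 2], [4, 7, 2, 3], [4, 7, 2, 4], [2, 3, 2, 7, 2], [2, 3, 7, 2, 3], [2, 3,
    7, 2, 4], [2, 4, 2, 7, 2], [2, 4, 7, 2, 3], [2, 4, 7, 2, 4], [3, 2, 4, 7, 2], [3, 2, 7, 2, 3],
    [3, 2, 7, 2, 4], [4, 2, 3, 7, 2], [4, 2, 7, 2, 3], [4, 2, 7, 2, 4], [2, 3, 2, 7, 2, 3], [2, 3,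
    2, 7, 2, 4], [2, 4, 2, 7, 2, 3], [2, 4, 2, 7, 2, 4], [3, 2, 4, 7, 2, 3], [3, 2, 4, 7, 2, 4],
    [4, 2, 3, 7, 2, 3], [4, 2, 3, 7, 2, 4]]

theorem words_KK : ∀ x : KK, ∃ w ∈ wordsA, x = wd t0 v0 r0 1 u0 w ∨ x = t0 * wd t0 v0 r0 1 u0 w := by
  decide +kernel

/-- The automorphism induced by a transposition. -/
def σ0 : KK ≃* KK := MulEquiv.prodCongr (MulEquiv.refl _) (MulAut.conjNormal (swap (0 : Fin 5) 1))

theorem σ0_gens : σ0 t0 = t0 ∧ σ0 v0 = v0 ∧ σ0 r0 = r0⁻¹ ∧ σ0 u0 = u0 := by decide +kernel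

theorem relC : t0 * t0 = 1 ∧ v0 * v0 = 1 ∧ r0 * r0 * r0 = 1 ∧ r0 * v0 * r0 * v0 * r0 * v0 = 1 ∧
    t0 * r0 * t0 * r0⁻¹ = 1 ∧ t0 * v0 * t0 * v0 = 1 ∧ u0 * u0 = 1 ∧
    v0 * u0 * v0 * u0 * v0 * u0 = 1 ∧ r0 * u0 * r0 * u0 = 1 ∧ t0 * u0 * t0 * u0 = 1 := by
  decide +kernel

end Cfsg.Agent.JTW
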