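import Cfsg.Agent.JTW.WCSetup
import Cfsg.Agent.Inv.ZStarElem
import Cfsg.Agent.FGS.SchurBasic
import Cfsg.Agent.PLocal.PConstr
import Cfsg.Agent.S2039

/-!
# A `2`-central involution whose weak closure in its centralizer is `2 × A₅`
-/

set_option autoImplicit false

namespace Cfsg.Agent.JTW

open Subgroup PLocal.Amb

universe u

theorem gens_inv : ∀ y ∈ [t0, v0, u0, r0 * u0], ∃ z i, i ≠ 0 ∧ z⁻¹ * y * z = τ0 i := by
  decide +kernel

theorem τ6_comm : τ0 6 = r0⁻¹ * v0 * r0⁻¹⁻¹ * v0⁻¹ := by decide +kernel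

variable {G : Type u} [Group G] {φ : KK →* G} {p : G}

theorem normal_of_le_center {X : Subgroup G} (h : X ≤ center G) : X.Normal :=
  ⟨fun x hx g => by rw [mem_center_iff.1 (h hx) g, mul_inv_cancel_right]; exact hx⟩

/-- The subgroup generated by the conjugates of the involution normalizing `A`. -/
def LL (φ : KK →* G) (p : G) : Subgroup G :=
  closure {s | s ∈ normalizer (AA φ p : Set G) ∧ IsConj (φ t0) s}

/-- The standing hypotheses. -/
structure WP (φ : KK →* G) (p : G) : Prop extends WC φ where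
  mem : p ∈ R0 φ
  act : Act φ p π1

theorem φ_mem_cent (y : KK) : φ y ∈ centralizer (AA φ p : Set G) :=
  fun _ ha => (AA.comm ha y).symm

theorem φ_mem_M (y : KK) : φ y ∈ normalizer (AA φ p : Set G) :=
  centralizer_le_normalizer' _ (φ_mem_cent y)

theorem p_mem_M : p ∈ normalizer (AA φ p : Set G) :=
  centralizer_le_normalizer' _ fun _ ha => AA.comm_p ha

theorem LL_le : LL φ p ≤ normalizer (AA φ p : Set G) := (closure_le _).2 fun _ h => h.1

namespace WP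

variable [Finite G] (h : WP φ p)
include h

omit [Finite G] in
theorem comm_of_map {H : Subgroup G} (hH : ∀ y, φ y ∈ H) {Q : Type*} [Group Q] (f : H →* Q)
    (hk : ∀ x : H, f x = 1 → (x : G) ∈ AA φ p) (x : H)
    (e : f x * f ⟨φ t0, hH _⟩ = f ⟨φ t0, hH _⟩ * f x) : (x : G) * φ t0 = φ t0 * x := by
  have h1 : (x : G) * φ t0 * (x : G)⁻¹ * (φ t0)⁻¹ ∈ AA φ p :=
    hk (x * ⟨φ t0, hH _⟩ * x⁻¹ * ⟨φ t0, hH _⟩⁻¹) (by simp [e])
  obtain ⟨y, hy⟩ := h.weak _ (isConj_iff.2 ⟨x, rfl⟩) (by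
    calc _ = (x : G) * φ t0 * (x : G)⁻¹ * (φ t0)⁻¹ * φ t0 * φ t0 := by group
      _ = _ := by rw [← AA.comm h1]; group)
  rw [← hy, ← map_inv, ← map_mul] at h1
  have h2 := congrArg φ (mul_inv_eq_one.1 (h.eq_one_of_mem_AA h.act h1))
  rw [hy] at h2
  exact mul_inv_eq_iff_eq_mul.1 h2

theorem transport {H : Subgroup G} (hH : ∀ y, φ y ∈ H) {q : G} (hqH : q ∈ H) (hq : Act φ q π1)
    {Q : Type*} [Group Q] (f : H →* Q) (hf : Function.Surjective f)
    (hk : ∀ x : H, f x = 1 → (x : G) ∈ AA φ p) : WC (f.comp (φ.codRestrict H hH)) := by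
  set ψ := φ.codRestrict H hH
  have key : ∀ x : H, f x * f (ψ t0) = f (ψ t0) * f x → _ := h.comm_of_map hH f hk
  have hinj : Function.Injective (f.comp ψ) := (injective_iff_map_eq_one _).2 fun y hy =>
    h.eq_one_of_mem_AA h.act (hk _ hy)
  refine ⟨hinj, fun s hs hc => ?_, fun c hc y => ?_, ⟨f (ψ v0), ?_, ?_, fun e => ?_⟩,
    fun P hP => ?_⟩
  · obtain ⟨c, rfl⟩ := isConj_iff.1 hs
    obtain ⟨x, rfl⟩ := hf c
    obtain ⟨y, hy⟩ := h.weak _ (isConj_iff.2 ⟨x, rfl⟩) (key (x * ψ t0 * x⁻¹) (by simpa using hc))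
    exact ⟨y, by simpa using congrArg f (Subtype.ext hy : ψ y = x * ψ t0 * x⁻¹)⟩
  · obtain ⟨x, rfl⟩ := hf c
    obtain ⟨y', hy⟩ := h.norm x (key x hc) y
    exact ⟨y', by simpa using congrArg f (Subtype.ext hy : x⁻¹ * ψ y * x = ψ y')⟩
  · exact isConj_iff.2 ⟨(f ⟨q, hqH⟩)⁻¹, by
      simpa using congrArg f (Subtype.ext (hq 1) : (⟨q, hqH⟩ : H)⁻¹ * ψ t0 * ⟨q, hqH⟩ = ψ v0)⟩
  · exact τ_comm (φ := f.comp ψ) 2 1
  · exact absurd (τ0_inj 2 1 (hinj e)) (by decide)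
  · obtain ⟨P', hP', rfl⟩ := PLocal.exists_isPGroup_map_eq f hf hP
    obtain ⟨g, hg, e⟩ := h.cen_of_mem hH hqH hq (hP'.map H.subtype) (map_subtype_le _)
    refine ⟨f ⟨g, hg⟩, ?_⟩
    rintro _ ⟨x, hx, rfl⟩
    simpa using congrArg f (Subtype.ext (e x ⟨x, hx, rfl⟩) :
      x * (⟨g, hg⟩ * ψ t0 * ⟨g, hg⟩⁻¹) = ⟨g, hg⟩ * ψ t0 * ⟨g, hg⟩⁻¹ * x)

theorem mem_M_of_comm {x : G} (hx : x * φ t0 = φ t0 * x) : x ∈ normalizer (AA φ p : Set G) := by
  obtain ⟨y, a, ha, rfl⟩ := h.exists_eq_mul h.mem h.act hx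
  exact mul_mem (φ_mem_M y) (le_normalizer ha)

theorem mem_M_of_conj {g : G} (hg : g * φ t0 * g⁻¹ ∈ normalizer (AA φ p : Set G)) :
    g ∈ normalizer (AA φ p : Set G) := by
  obtain ⟨m, hm, e⟩ := h.conj_of_mem φ_mem_M p_mem_M h.act (isConj_iff.2 ⟨g, rfl⟩) hg
  refine (Subgroup.mul_mem_cancel_left _ (inv_mem hm)).1 (h.mem_M_of_comm ?_)
  calc _ = m⁻¹ * (g * φ t0 * g⁻¹) * g := by group
    _ = _ := by rw [← e]; group

omit h in
theorem M_le : normalizer (AA φ p : Set G) ≤ normalizer (LL φ p : Set G) := fun g hg =>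
  mem_normalizer_of_cj_le (by
    rw [LL, MonoidHom.map_closure]
    refine closure_mono ?_
    rintro _ ⟨s, hs, rfl⟩
    exact ⟨mul_mem (mul_mem hg hs.1) (inv_mem hg), hs.2.trans (isConj_iff.2 ⟨g, rfl⟩)⟩)

theorem LL_le_cent : LL φ p ≤ centralizer (AA φ p : Set G) := (closure_le _).2 fun s hs => by
  obtain ⟨m, hm, rfl⟩ := h.conj_of_mem φ_mem_M p_mem_M h.act hs.2 hs.1
  exact conj_mem_of_mem_normalizer (normalizer_le_normalizer_centralizer _ hm) (φ_mem_cent _)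

omit [Finite G] in
theorem φ_mem_LL (y : KK) : φ y ∈ LL φ p := by
  have h1 : ∀ y ∈ [t0, v0, u0, r0 * u0], φ y ∈ LL φ p := fun y hy => by
    obtain ⟨z, i, hi, e⟩ := gens_inv y hy
    obtain ⟨k, hk⟩ := h.act.exists_pow_conj hi
    refine subset_closure ⟨φ_mem_M y, isConj_iff.2 ⟨φ z * (p ^ k)⁻¹, ?_⟩⟩
    calc _ = φ z * ((p ^ k)⁻¹ * φ t0 * p ^ k) * (φ z)⁻¹ := by group
      _ = _ := by simp [hk, ← e, mul_assoc]
  refine map_mem_of_gens (h1 _ (by simp)) (h1 _ (by simp)) ?_ (h1 _ (by simp)) y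
  simpa using mul_mem (h1 (r0 * u0) (by simp)) (inv_mem (h1 u0 (by simp)))

theorem q_mem : (p⁻¹ * (φ r0)⁻¹ * p * φ r0) ^ 5 ∈ LL φ p :=
  pow_mem (mul_mem (inv_conj_mem_of_mem_normalizer (M_le p_mem_M) (inv_mem (h.φ_mem_LL _)))
    (h.φ_mem_LL _)) 5

theorem conj_LL {s : G} (hs : IsConj (φ t0) s) (hM : s ∈ normalizer (AA φ p : Set G)) :
    ∃ g ∈ LL φ p, g * φ t0 * g⁻¹ = s :=
  h.conj_of_mem h.φ_mem_LL h.q_mem h.act.comm_pow hs (subset_closure ⟨hM, hs⟩)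

theorem exists_mul {m : G} (hm : m ∈ normalizer (AA φ p : Set G)) :
    ∃ l ∈ LL φ p, ∃ a ∈ AA φ p, m = l * a := by
  obtain ⟨g, hg, e⟩ := h.conj_LL (isConj_iff.2 ⟨m, rfl⟩)
    (mul_mem (mul_mem hm (φ_mem_M _)) (inv_mem hm))
  obtain ⟨y, a, ha, e'⟩ := h.exists_eq_mul h.mem h.act (x := g⁻¹ * m) (by
    calc _ = g⁻¹ * (m * φ t0 * m⁻¹) * m := by group
      _ = _ := by rw [← e]; group)
  exact ⟨g * φ y, mul_mem hg (h.φ_mem_LL y), a, ha, by rw [mul_assoc, ← e', mul_inv_cancel_left]⟩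

theorem perfect : ⁅LL φ p, LL φ p⁆ = LL φ p := by
  refine le_antisymm (commutator_le_self _) ((closure_le _).2 fun s hs => ?_)
  have hn := le_normalizer_commutator (L := LL φ p) le_normalizer le_normalizer
  obtain ⟨g, hg, rfl⟩ := h.conj_LL hs.2 hs.1
  obtain ⟨k, hk⟩ := h.act.comm_pow.exists_pow_conj (i := 6) (by decide)
  refine conj_mem_of_mem_normalizer (hn hg)
    ((mem_normalizer_iff''.1 (hn (pow_mem h.q_mem k)) _).2 ?_)
  rw [hk, τ6_comm, map_mul, map_mul, map_mul, map_inv _ v0, map_inv _ r0⁻¹]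
  exact commutator_mem_commutator (h.φ_mem_LL _) (h.φ_mem_LL _)

theorem perfect' : _root_.commutator (LL φ p) = ⊤ := by
  rw [← map_subtype_inj, map_subtype_commutator, h.perfect, ← MonoidHom.range_eq_map, range_subtype]

theorem index_ne_two {Q : Type*} [Group Q] (f : LL φ p →* Q) (hf : Function.Surjective f)
    (K : Subgroup Q) : K.index ≠ 2 := fun hK => by
  have h1 := h.perfect'
  have h2 : commutator Q = ⊤ := by
    rw [commutator_def, ← map_top_of_surjective f hf, ← map_commutator, ← commutator_def, h1]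
  have := normal_of_index_eq_two hK
  have h3 : commutator Q ≤ K := commutator_le.2 fun a _ b _ => by
    simp only [commutatorElement_def, mul_mem_iff_of_index_two hK, inv_mem_iff]
    tauto
  rw [h2, top_le_iff] at h3
  simp [h3] at hK

theorem exists_cfg {Q : Type*} [Group Q] [Finite Q] (f : LL φ p →* Q) (hf : Function.Surjective f)
    (hk : ∀ x, f x = 1 ↔ (x : G) ∈ AA φ p) :
    ∃ (ψ : KK →* Q) (q : Q), ψ t0 = f ⟨φ t0, h.φ_mem_LL _⟩ ∧ Cfg ψ q := by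
  have h1 := h.transport h.φ_mem_LL h.q_mem h.act.comm_pow f hf fun x => (hk x).1
  set ψ := f.comp (φ.codRestrict _ h.φ_mem_LL)
  have h2 : ∀ g, g * ψ t0 = ψ t0 * g → ∃ y, ψ y = g := fun g hg => by
    obtain ⟨x, rfl⟩ := hf g
    obtain ⟨y, a, ha, e⟩ := h.exists_eq_mul h.mem h.act
      (h.comm_of_map h.φ_mem_LL f (fun x => (hk x).1) x hg)
    have h3 := (hk (⟨φ y, h.φ_mem_LL y⟩⁻¹ * x)).2 (by simpa [e] using ha)
    rw [map_mul, map_inv, inv_mul_eq_one] at h3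
    exact ⟨y, h3⟩
  refine Pre.exists_cfg (φ := ψ) ⟨h1.inj, h2, fun h16 => ?_⟩ (h.index_ne_two f hf)
  obtain ⟨S⟩ : Nonempty (Sylow 2 Q) := inferInstance
  obtain ⟨g, hg⟩ := h1.cen S S.isPGroup'
  have h3 : cj(g⁻¹, (S : Subgroup Q)) ≤ ψ.range := by
    rintro _ ⟨x, hx, rfl⟩
    refine h2 _ ?_
    calc _ = g⁻¹ * (x * (g * ψ t0 * g⁻¹)) * g := by simp [mul_assoc]
      _ = _ := by rw [hg x hx]; simp [mul_assoc]
  have h4 := (S.pow_dvd_card_of_pow_dvd_card (n := 4) h16).trans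
    ((card_cj g⁻¹ _).symm.dvd.trans (card_dvd_of_le h3))
  rw [← Nat.card_congr (MonoidHom.ofInjective h1.inj).toEquiv, card_KK] at h4
  omega

theorem eq_one_of_mem {x : G} (hL : x ∈ LL φ p) (hA : x ∈ AA φ p) : x = 1 := by
  have hc : (AA φ p).subgroupOf (LL φ p) ≤ center _ := fun a ha =>
    mem_center_iff.2 fun l => Subtype.ext (h.LL_le_cent l.2 _ ha).symm
  have : ((AA φ p).subgroupOf (LL φ p)).Normal := normal_of_le_center hc
  obtain ⟨ψ, q, -, h1⟩ := h.exists_cfg (QuotientGroup.mk' ((AA φ p).subgroupOf (LL φ p)))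
    (QuotientGroup.mk'_surjective _) fun x => QuotientGroup.eq_one_iff x
  obtain ⟨e⟩ := h1.isoJ1
  have h2 := FGS.ker_eq_bot_of_trivial_multiplier S2039.result
    (FGS.IsStemExtension.mulEquiv_comp (σ := QuotientGroup.mk' ((AA φ p).subgroupOf (LL φ p)))
      ⟨QuotientGroup.mk'_surjective _, by rwa [QuotientGroup.ker_mk'], by
        rw [h.perfect']; exact le_top⟩ e)
  have h3 : (⟨x, hL⟩ : LL φ p) ∈ (⊥ : Subgroup _) := h2 ▸ by
    simpa [mem_subgroupOf] using hA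
  exact congrArg Subtype.val (mem_bot.1 h3)

theorem exists_cfg_LL : ∃ (ψ : KK →* LL φ p) (q : LL φ p), (ψ t0 : G) = φ t0 ∧ Cfg ψ q := by
  obtain ⟨ψ, q, e, h1⟩ := h.exists_cfg (MonoidHom.id _) Function.surjective_id fun x =>
    ⟨fun e => (show x = 1 from e) ▸ one_mem _, fun hx => Subtype.ext (h.eq_one_of_mem x.2 hx)⟩
  exact ⟨ψ, q, congrArg Subtype.val e, h1⟩

theorem cent_le {s : G} (hs : IsConj (φ t0) s) (hM : s ∈ normalizer (AA φ p : Set G)) {x : G}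
    (hx : x * s = s * x) : x ∈ normalizer (AA φ p : Set G) := by
  obtain ⟨g, hg, rfl⟩ := h.conj_LL hs hM
  refine (mem_normalizer_iff''.1 (le_normalizer (LL_le hg)) _).2 (h.mem_M_of_comm ?_)
  calc _ = g⁻¹ * (x * (g * φ t0 * g⁻¹)) * g := by group
    _ = _ := by rw [hx]; group

theorem cent_mul_le {a : G} (ha : a ∈ AA φ p) :
    centralizer {φ t0 * a} ≤ normalizer (AA φ p : Set G) := by
  have hH : ∀ y, φ y ∈ centralizer {φ t0 * a} := fun y => mem_centralizer_singleton_iff.2 (by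
    rw [← mul_assoc, ← map_mul, t0_comm, map_mul, mul_assoc, AA.comm ha, mul_assoc])
  set H := centralizer {φ t0 * a}
  have h1 : IsIsolated (⟨φ t0, hH _⟩ : H) := fun g hg => Subtype.ext (by
    obtain ⟨y, hy⟩ := h.weak _ (isConj_iff.2 ⟨g, rfl⟩) (congrArg Subtype.val hg.symm)
    have hM := h.mem_M_of_conj (hy ▸ φ_mem_M y)
    have h2 : (φ y)⁻¹ * φ t0 = g * a * (g : G)⁻¹ * a⁻¹ := by
      calc _ = (φ y)⁻¹ * (φ t0 * a * g * (g : G)⁻¹) * a⁻¹ := by group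
        _ = _ := by rw [← mem_centralizer_singleton_iff.1 g.2, hy]; group
    have h3 := h.eq_one_of_mem (mul_mem (inv_mem (h.φ_mem_LL y)) (h.φ_mem_LL t0))
      (h2 ▸ mul_mem (conj_mem_of_mem_normalizer hM ha) (inv_mem ha))
    exact hy.symm.trans (inv_mul_eq_one.1 h3))
  have h2 : (oddCore H).map H.subtype ≤ normalizer (AA φ p : Set G) := by
    by_contra h2
    have hn : ∀ y, φ y ∈ normalizer (((oddCore H).map H.subtype : Subgroup G) : Set G) := fun y =>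
      le_normalizer_map_subtype _ (hH y)
    obtain ⟨s, -, hs, hs'⟩ := exists_fixed_of_four h.orderOf_t (h.orderOf_τ (i := 2) (by decide))
      (fun e => absurd (h.τ_inj (i := 1) e) (by decide)) (τ_comm 1 2) (by
        rw [card_map_of_injective H.subtype_injective]
        exact Nat.coprime_two_right.1 (Grp.pPrimeCore_coprime 2 H)) (hn _) (hn _) h2
    have h3 : ∀ i, i ≠ 0 → s * φ (τ0 i) ≠ φ (τ0 i) * s := fun i hi e => by
      obtain ⟨k, hk⟩ := h.act.exists_pow_conj hi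
      exact hs (h.cent_le (isConj_iff.2 ⟨(p ^ k)⁻¹, by simpa using hk⟩) (φ_mem_M _) e)
    rcases hs' with e | e | e
    exacts [h3 1 (by decide) e, h3 2 (by decide) e, h3 3 (by decide) (by simpa [τ0] using e)]
  intro g hg
  obtain ⟨o, ho, c, hc, e⟩ := Inv.exists_oddCore_mul_of_isIsolated h1
    ⟨1, Subtype.ext (by simpa [sq, τ0] using τ_sq (φ := φ) 1)⟩ ⟨g, hg⟩
  rw [show g = o * c from congrArg Subtype.val e]
  exact mul_mem (h2 ⟨o, ho, rfl⟩)
    (h.mem_M_of_comm (congrArg Subtype.val (mem_centralizer_singleton_iff.1 hc)))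

theorem le_of_quot {H : Subgroup G} (hL : LL φ p ≤ H) {Q : Type*} [Group Q] [Finite Q] (f : H →* Q)
    (hk : ∀ x : H, f x = 1 → (x : G) ∈ AA φ p) (h2 : (∀ x : H, f x = 1 → (x : G) ∈ AA φ p) →
      Nat.card (normalClosure {f ⟨φ t0, hL (h.φ_mem_LL _)⟩}) = 175560) :
    H ≤ normalizer (AA φ p : Set G) := by
  obtain ⟨ψ, q, -, h3⟩ := h.exists_cfg_LL
  set t : H := ⟨φ t0, hL (h.φ_mem_LL _)⟩
  have h1 : ∀ g, g * f t * g⁻¹ ∈ normalClosure {f t} :=
    normalClosure_normal.conj_mem _ (subset_normalClosure rfl)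
  have h4 : (f.comp (inclusion hL)).range = normalClosure {f t} := by
    refine eq_of_le_of_card_ge ?_ ((h2 hk).trans ((isJ1_of_isoJ1 h3.isoJ1).2.symm.trans
      (Nat.card_congr (MonoidHom.ofInjective ?_).toEquiv))).le
    · have h5 : LL φ p ≤ ((normalClosure {f t}).comap f).map H.subtype :=
        (closure_le _).2 fun s hs => by
          obtain ⟨g, hg, rfl⟩ := h.conj_LL hs.2 hs.1
          exact ⟨⟨g, hL hg⟩ * t * ⟨g, hL hg⟩⁻¹, by simpa using h1 _, rfl⟩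
      rintro _ ⟨l, rfl⟩
      obtain ⟨x, hx, e⟩ := h5 l.2
      rwa [show x = inclusion hL l from Subtype.ext e] at hx
    · exact (injective_iff_map_eq_one _).2 fun x hx => Subtype.ext (h.eq_one_of_mem x.2 (hk _ hx))
  intro g hg
  obtain ⟨l, hl⟩ := h4.ge (h1 (f ⟨g, hg⟩))
  have h5 := hk ((inclusion hL l)⁻¹ * (⟨g, hg⟩ * t * ⟨g, hg⟩⁻¹)) (by
    rw [map_mul, map_inv, inv_mul_eq_one, map_mul, map_mul, map_inv]
    exact hl)
  exact h.mem_M_of_conj ((Subgroup.mul_mem_cancel_left _ (inv_mem (LL_le l.2))).1 (le_normalizer h5))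

theorem cent_AA_le (ih : ∀ (Q : Type u) [Group Q] [Finite Q], Nat.card Q < Nat.card G →
    ∀ ψ : KK →* Q, WC ψ → _root_.Cfsg.Spor.IsoJ1 (normalClosure {ψ t0}))
    {a : G} (ha : a ∈ AA φ p) (h1 : a ≠ 1) : centralizer {a} ≤ normalizer (AA φ p : Set G) := by
  have hL : LL φ p ≤ centralizer {a} := fun l hl =>
    mem_centralizer_singleton_iff.2 (h.LL_le_cent hl a ha).symm
  set H := centralizer {a}
  have haH : a ∈ H := mem_centralizer_singleton_iff.2 rfl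
  have : (zpowers (⟨a, haH⟩ : H)).Normal := normal_of_le_center (zpowers_le.2
    (mem_center_iff.2 fun x => Subtype.ext (mem_centralizer_singleton_iff.1 x.2)))
  refine h.le_of_quot hL (QuotientGroup.mk' (zpowers (⟨a, haH⟩ : H))) (fun x hx => ?_) fun h2 => ?_
  · obtain ⟨k, rfl⟩ := (QuotientGroup.eq_one_iff x).1 hx
    exact zpow_mem ha k
  · have h3 := h.transport (fun y => hL (h.φ_mem_LL y)) (hL h.q_mem) h.act.comm_pow _
      (QuotientGroup.mk'_surjective _) h2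
    exact (isJ1_of_isoJ1 (ih _ (lt_of_lt_of_le (Grp.card_quotient_lt _ (by
      simpa [Subtype.ext_iff] using h1)) (card_le_card_group H)) _ h3)).2

theorem isoJ1 (ih : ∀ (Q : Type u) [Group Q] [Finite Q], Nat.card Q < Nat.card G →
    ∀ ψ : KK →* Q, WC ψ → _root_.Cfsg.Spor.IsoJ1 (normalClosure {ψ t0})) :
    _root_.Cfsg.Spor.IsoJ1 (normalClosure {φ t0}) := by
  obtain ⟨ψ, q, hψ, hc⟩ := h.exists_cfg_LL
  set M := normalizer (AA φ p : Set G) with hM
  by_cases hT : M = ⊤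
  · have e : normalClosure {φ t0} = LL φ p := by
      rw [LL, ← hM, hT, normalClosure]
      congr 1
      ext s
      simp [Group.mem_conjugatesOfSet_iff]
    rw [e]
    exact hc.isoJ1
  have h1 : ∀ z ∈ M, orderOf z = 2 → centralizer {z} ≤ M ∧
      ∃ s ∈ M, IsConj (φ t0) s ∧ s * z = z * s := fun z hz hz2 => by
    obtain ⟨l, hl, a, ha, rfl⟩ := h.exists_mul hz
    have h2 : Commute l a := (h.LL_le_cent hl a ha).symm
    by_cases h3 : l = 1
    · subst h3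
      rw [one_mul] at hz2 ⊢
      exact ⟨h.cent_AA_le ih ha (Inv.ne_one_of_orderOf_two hz2), _, φ_mem_M _, IsConj.refl _,
        AA.comm ha _⟩
    have h4 : l ^ 2 = 1 := h.eq_one_of_mem (pow_mem hl 2) (by
      rw [eq_inv_of_mul_eq_one_left ((h2.mul_pow 2).symm.trans (hz2 ▸ pow_orderOf_eq_one _))]
      exact inv_mem (pow_mem ha 2))
    obtain ⟨g, hg⟩ := hc.exists_conj (x := ⟨l, hl⟩) (by rw [orderOf_mk, orderOf_eq_prime h4 h3])
    replace hg : g * l * (g : G)⁻¹ = φ t0 := (congrArg Subtype.val hg).trans hψ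
    refine ⟨fun x hx => ?_, l, LL_le hl, (isConj_iff.2 ⟨_, hg⟩).symm,
      ((Commute.refl l).mul_right h2).eq⟩
    refine (mem_normalizer_iff.1 (le_normalizer (LL_le g.2)) _).2 (h.cent_mul_le ha ?_)
    rw [← hg, show g * l * (g : G)⁻¹ * a = g * (l * a) * (g : G)⁻¹ by
      rw [mul_assoc, ← h.LL_le_cent (inv_mem g.2) a ha]; group, centralizer_singleton_conj]
    exact conj_mem_cj _ hx
  have hS : IsStronglyEmbedded M := Inv.isStronglyEmbedded_iff.2 ⟨hT,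
    Inv.even_card_of_involution (φ_mem_M t0) h.orderOf_t, fun z hz hz2 g hg => by
      obtain ⟨-, s, hs, hs', e⟩ := h1 z hz hz2
      obtain ⟨m, hm, rfl⟩ := h.conj_LL hs' hs
      refine (Subgroup.mul_mem_cancel_right _ (LL_le hm)).1 (h.mem_M_of_conj ?_)
      refine (h1 _ hg (by rw [Inv.orderOf_conj, hz2])).1 (mem_centralizer_singleton_iff.2 ?_)
      calc _ = g * (m * φ t0 * m⁻¹ * z) * g⁻¹ := by group
        _ = _ := by rw [e]; group⟩
  obtain ⟨u, hu, hu2⟩ := Inv.SE.exists_involution_not_mem hS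
  have h2 := hS.2.2 u hu
  set D := M ⊓ M.map (MulAut.conj u).toMonoidHom
  let E : Subgroup (LL φ p) :=
    { carrier := {l | ∃ a ∈ AA φ p, l * a ∈ D}
      one_mem' := ⟨1, one_mem _, by simp⟩
      mul_mem' := fun {x y} ⟨a, ha, e⟩ ⟨b, hb, e'⟩ => ⟨a * b, mul_mem ha hb, by
        have := mul_mem e e'
        rwa [mul_assoc, ← mul_assoc a, h.LL_le_cent y.2 a ha, mul_assoc, ← mul_assoc] at this⟩
      inv_mem' := fun {x} ⟨a, ha, e⟩ => ⟨a⁻¹, inv_mem ha, by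
        have := inv_mem e
        rwa [← h.LL_le_cent x.2 a ha, mul_inv_rev] at this⟩ }
  refine (hc.false_of_odd (isJ1_of_isoJ1 hc.isoJ1) E (Inv.odd_card_iff.2 ?_) fun s hs => ?_).elim
  · rintro l ⟨a, ha, e⟩ hl
    have h3 : Commute (l : G) a := (h.LL_le_cent l.2 a ha).symm
    have h4 := h.eq_one_of_mem (pow_mem l.2 (Nat.card D)) (by
      rw [eq_inv_of_mul_eq_one_left ((h3.mul_pow _).symm.trans 
        (congrArg Subtype.val (pow_card_eq_one' (x := (⟨_, e⟩ : D)))))]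
      exact inv_mem (pow_mem ha _))
    rw [← orderOf_dvd_iff_pow_eq_one, orderOf_coe, hl] at h4
    exact (Nat.not_even_iff_odd.2 h2) (even_iff_two_dvd.2 h4)
  · obtain ⟨d, hd, e⟩ := (S1225.result M hS u hu2 hu _ s h.orderOf_t (φ_mem_M t0)
      (by rw [orderOf_coe, hs]) (LL_le s.2)).1
    obtain ⟨l, hl, a, ha, rfl⟩ := h.exists_mul hd.1
    refine ⟨⟨l, hl⟩, ⟨a, ha, hd⟩, Subtype.ext ?_⟩
    simp only [coe_mul, InvMemClass.coe_inv, hψ, ← e]
    rw [mul_assoc l a, ← AA.comm ha]; group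

end WP

theorem WC.isoJ1 (n : ℕ) : ∀ (G : Type u) [Group G] [Finite G], Nat.card G = n →
    ∀ φ : KK →* G, WC φ → _root_.Cfsg.Spor.IsoJ1 (normalClosure {φ t0}) := by
  induction n using Nat.strongRecOn with | ind n ih => ?_
  intro G _ _ hn φ h
  obtain ⟨φ', g, e, h', hg⟩ := h.exists_act_π1
  obtain ⟨p, hp, hp'⟩ := h'.exists_p hg
  rw [← e]
  exact WP.isoJ1 ⟨h', hp, hp'⟩ fun Q _ _ hQ => ih _ (hn ▸ hQ) Q rfl

end Cfsg.Agent.JTW
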