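import Cfsg.Agent.JTW.Janko
import Cfsg.Agent.PLocal.AmbSyl

/-!
# A `2`-central involution whose weak closure in its centralizer is `2 × A₅`: local analysis
-/

set_option autoImplicit false

namespace Cfsg.Agent.JTW

open Subgroup PLocal.Amb

theorem inv_conj_τ : ∀ x : KK, x * x = 1 → x = 1 ∨ x = t0 ∨
    ∃ y, y⁻¹ * x * y = τ0 2 ∨ y⁻¹ * x * y = τ0 3 := by decide +kernel
theorem cent_τ23 : ∀ x : KK, x * τ0 2 = τ0 2 * x ∨ x * τ0 3 = τ0 3 * x → ∃ i, x = τ0 i := by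
  decide +kernel
theorem even_of_rel : ∀ x : KK, x * x * x = 1 → ∀ i, x * τ0 i * x * τ0 i * x * τ0 i = 1 →
    i.1 % 2 = 0 := by decide +kernel
theorem aut_r : ∀ x : KK, x * x * x = 1 → x = 1 ∨ ∃ y, y⁻¹ * x * y = r0 := by decide +kernel
theorem aut_v : ∀ x : KK, x * x = 1 → r0 * x * r0 * x * r0 * x = 1 → x = 1 ∨
    ∃ y, y⁻¹ * x * y = v0 ∧ (y⁻¹ * r0 * y = r0 ∨ y⁻¹ * r0 * y = r0⁻¹) := by decide +kernel
theorem aut_u : ∀ x : KK, x * x = 1 → v0 * x * v0 * x * v0 * x = 1 → r0 * x * r0 * x = 1 →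
    x = u0 := by decide +kernel
theorem τ_cent_r : ∀ i, τ0 i * r0 = r0 * τ0 i → i = 0 ∨ i = 1 := by decide +kernel
theorem dec_three : ∀ a b c : Fin 8, xr a b = 1 → Function.Injective (lin a b c) →
    (∀ i : Fin 8, i.1 % 2 = 1 → (lin a b c i).1 % 2 = 1) →
    ∃ w ∈ [[false, true, false, true, true, true], [false, false, true, false, true, true]],
      (∀ i, wf (lin a b c) w (wf (lin a b c) w i) = i) ∧
        ∀ i, wf (lin a b c) w i = i → i.1 % 2 = 0 := by decide +kernel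
theorem dec_two : ∀ a c : Fin 8, Function.Injective (lin a 1 c) →
    ∃ w ∈ [[false, true, true], [false, true, false, true, false],
      [false, true, false, false, true, false, false], [true, true, false, true],
      [true, false, true, true, false], [true, true, false, false, true],
      [true, false, true, false, false, true], [true, false, false, true, true],
      [true, false, false, true, false, true]], wf (lin a 1 c) w = π1 ∨ wf (lin a 1 c) w = π2 ∨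
        (wf (lin a 1 c) w 1 = 1 ∧ (wf (lin a 1 c) w 2).1 % 2 = 1) := by decide +kernel

variable {G : Type*} [Group G]

/-- `φ` identifies `2 × A₅` with the weak closure of a `2`-central involution in its centralizer. -/
structure WC (φ : KK →* G) : Prop where
  inj : Function.Injective φ
  weak : ∀ s, IsConj (φ t0) s → s * φ t0 = φ t0 * s → ∃ y, φ y = s
  norm : ∀ c, c * φ t0 = φ t0 * c → ∀ y, ∃ y', c⁻¹ * φ y * c = φ y'
  noniso : ∃ s, IsConj (φ t0) s ∧ s * φ t0 = φ t0 * s ∧ s ≠ φ t0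
  cen : ∀ P : Subgroup G, IsPGroup 2 P → ∃ g, ∀ x ∈ P, x * (g * φ t0 * g⁻¹) = g * φ t0 * g⁻¹ * x

variable {φ : KK →* G}

theorem exists_act_wf {g : G} {f : Fin 8 → Fin 8} (hf : Act φ g f) (w : List Bool) :
    ∃ g, Act φ g (wf f w) := by
  induction w with
  | nil => exact ⟨1, act_one⟩
  | cons b w ih =>
    obtain ⟨g, hg⟩ := ih
    cases b
    exacts [⟨_, act_r.mul hg⟩, ⟨_, hf.mul hg⟩]

theorem Act.comm {g : G} {f : Fin 8 → Fin 8} (hg : Act φ g f) {i : Fin 8} (h : f i = i) :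
    g * φ (τ0 i) = φ (τ0 i) * g := by
  rw [← mul_inv_cancel_left g (φ (τ0 i) * g), ← mul_assoc g⁻¹, hg i, h]

theorem Act.isConj {g : G} {f : Fin 8 → Fin 8} (hg : Act φ g f) (i : Fin 8) :
    IsConj (φ (τ0 i)) (φ (τ0 (f i))) := isConj_iff.2 ⟨g⁻¹, by simpa using hg i⟩

theorem Act.exists_pow_conj {q : G} (hq : Act φ q π1) {i : Fin 8} (hi : i ≠ 0) :
    ∃ k : ℕ, (q ^ k)⁻¹ * φ t0 * q ^ k = φ (τ0 i) := by
  obtain ⟨k, -, rfl⟩ := (by decide : ∀ i : Fin 8, i ≠ 0 → ∃ k < 7, π1^[k] 1 = i) i hi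
  exact ⟨k, hq.pow k 1⟩

theorem Act.comm_pow {g : G} (hg : Act φ g π1) :
    Act φ ((g⁻¹ * (φ r0)⁻¹ * g * φ r0) ^ 5) π1 :=
  (((((hg.inv (f' := π1^[6]) (by decide)).mul (act_r.inv (f' := ρ0 ∘ ρ0) (by decide))).mul hg).mul
    act_r).pow 5).congr (by decide)

theorem act_id_iff {g : G} : Act φ g id ↔ g ∈ centralizer (TT φ : Set G) := by
  refine ⟨fun h x hx => ?_, fun h i => ?_⟩
  · obtain ⟨i, rfl⟩ := mem_TT.1 hx
    exact (h.comm rfl).symm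
  · rw [mul_assoc, h _ (τ_mem i), inv_mul_cancel_left, id]

namespace WC

variable (h : WC φ)
include h

theorem τ_inj {i j : Fin 8} (e : φ (τ0 i) = φ (τ0 j)) : i = j := τ0_inj i j (h.inj e)

theorem orderOf_τ {i : Fin 8} (hi : i ≠ 0) : orderOf (φ (τ0 i)) = 2 :=
  Inv.orderOf_two_of_mul_self (τ_sq i) fun e => hi (h.τ_inj (e.trans τ_zero.symm))

theorem orderOf_t : orderOf (φ t0) = 2 := h.orderOf_τ (i := 1) (by decide)

theorem orderOf_conj {s : G} (hs : IsConj (φ t0) s) : orderOf s = 2 :=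
  (Inv.orderOf_eq_of_isConj hs).symm.trans h.orderOf_t

theorem act_inj {g : G} {f : Fin 8 → Fin 8} (hg : Act φ g f) : Function.Injective f :=
  fun i j e => h.τ_inj (mul_left_cancel (mul_right_cancel ((hg i).trans (e ▸ (hg j).symm))))

theorem act_lin {g : G} {f : Fin 8 → Fin 8} (hg : Act φ g f) : f = lin (f 1) (f 2) (f 4) :=
  eq_lin f fun i j => h.τ_inj (by rw [← τ_mul, ← hg, ← hg, ← hg, ← τ_mul]; group)

omit h in
theorem isPGroup_TT : IsPGroup 2 (TT φ) := fun x => by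
  obtain ⟨i, hi⟩ := mem_TT.1 x.2
  exact ⟨1, Subtype.ext (by simp [hi, sq, τ_sq])⟩

theorem exists_center {P : Subgroup G} (hP : IsPGroup 2 P) (hT : TT φ ≤ P) :
    ∃ j, j ≠ 0 ∧ IsConj (φ t0) (φ (τ0 j)) ∧ ∀ x ∈ P, x * φ (τ0 j) = φ (τ0 j) * x := by
  obtain ⟨g, hg⟩ := h.cen P hP
  have h1 : IsConj (φ t0) (g * φ t0 * g⁻¹) := isConj_iff.2 ⟨g, rfl⟩
  obtain ⟨y, hy⟩ := h.weak _ h1 (hg _ (hT (τ_mem 1))).symm
  rw [← hy] at hg h1
  obtain ⟨j, rfl⟩ := cent_τ23 y (Or.inl (h.inj (by simpa using (hg _ (hT (τ_mem 2))).symm)))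
  refine ⟨j, fun e => ?_, h1, hg⟩
  have := h.orderOf_conj h1
  simp [e, τ_zero] at this

theorem exists_conj_τ {s : G} (hs : IsConj (φ t0) s) (hc : s * φ t0 = φ t0 * s) (h1 : s ≠ φ t0) :
    ∃ y, (φ y)⁻¹ * s * φ y = φ (τ0 2) ∨ (φ y)⁻¹ * s * φ y = φ (τ0 3) := by
  obtain ⟨x, rfl⟩ := h.weak s hs hc
  have h2 := h.orderOf_conj hs
  rcases inv_conj_τ x (h.inj (by simp [← sq, ← h2]))
    with rfl | rfl | ⟨y, hy⟩
  · simp at h2
  · exact absurd rfl h1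
  · exact ⟨y, hy.imp (fun e => by simp [← e]) fun e => by simp [← e]⟩

theorem exists_act_of_isConj {j : Fin 8} (hj : j = 2 ∨ j = 3) (hc : IsConj (φ t0) (φ (τ0 j))) :
    ∃ n f, Act φ n f ∧ f j = 1 := by
  obtain ⟨g, hg⟩ := isConj_iff.1 hc.symm
  have h1 : ∀ s, IsConj (φ t0) s → s * φ (τ0 j) = φ (τ0 j) * s →
      IsConj (φ t0) (g * s * g⁻¹) ∧ g * s * g⁻¹ * φ t0 = φ t0 * (g * s * g⁻¹) := fun s hs e =>
    ⟨hs.trans (isConj_iff.2 ⟨g, rfl⟩), by rw [← hg, conj_mul, conj_mul, e]⟩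
  obtain ⟨y, hy⟩ := h.exists_conj_τ (h1 _ (IsConj.refl _) (τ_comm 1 j)).1
    (h1 _ (IsConj.refl _) (τ_comm 1 j)).2 fun e => by
      have := h.τ_inj (i := 1) (mul_left_cancel (mul_right_cancel (e.trans hg.symm)))
      omega
  obtain ⟨z, hz⟩ := h.weak _ (h1 _ (hc.trans (act_r.isConj j)) (τ_comm _ j)).1
    (h1 _ (hc.trans (act_r.isConj j)) (τ_comm _ j)).2
  have e : ∀ s, (g⁻¹ * φ y)⁻¹ * s * (g⁻¹ * φ y) = (φ y)⁻¹ * (g * s * g⁻¹) * φ y := fun s => by group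
  have h2 : (g⁻¹ * φ y)⁻¹ * φ (τ0 j) * (g⁻¹ * φ y) = φ (τ0 1) := by
    rw [e, hg, mul_assoc, ← map_mul, ← t0_comm, map_mul, inv_mul_cancel_left]; rfl
  obtain ⟨a, ha⟩ : ∃ a, (a = 2 ∨ a = 3) ∧ (g⁻¹ * φ y)⁻¹ * φ (τ0 1) * (g⁻¹ * φ y) = φ (τ0 a) := by
    rcases hy with hy | hy
    exacts [⟨2, Or.inl rfl, (e _).trans hy⟩, ⟨3, Or.inr rfl, (e _).trans hy⟩]
  have h3 : (g⁻¹ * φ y)⁻¹ * φ (τ0 (ρ0 j)) * (g⁻¹ * φ y) = φ (y⁻¹ * z * y) := by
    rw [e, ← hz, map_mul, map_mul, map_inv]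
  have h4 : y⁻¹ * z * y * τ0 a = τ0 a * (y⁻¹ * z * y) := h.inj (by
    rw [map_mul _ _ (τ0 a), map_mul _ (τ0 a), ← h3, ← ha.2]
    have := τ_comm (φ := φ) (ρ0 j) 1
    calc _ = (g⁻¹ * φ y)⁻¹ * (φ (τ0 (ρ0 j)) * φ (τ0 1)) * (g⁻¹ * φ y) := by group
      _ = _ := by rw [this]; group)
  obtain ⟨c, hc'⟩ := cent_τ23 _ (ha.1.imp (fun e => e ▸ h4) fun e => e ▸ h4)
  rw [hc'] at h3
  have h5 : ∀ {n : G} {i k i' k' : Fin 8}, n⁻¹ * φ (τ0 i) * n = φ (τ0 i') →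
      n⁻¹ * φ (τ0 k) * n = φ (τ0 k') → n⁻¹ * φ (τ0 (xr i k)) * n = φ (τ0 (xr i' k')) :=
    fun e1 e2 => by rw [← τ_mul, ← τ_mul, ← e1, ← e2]; group
  rcases hj with rfl | rfl
  · exact ⟨_, _, act_of_three ha.2 h2 h3, rfl⟩
  · have h6 := act_of_three ha.2 (h5 ha.2 h2) (h5 ha.2 h3)
    exact ⟨_, _, h6, h.τ_inj ((h6 3).symm.trans h2)⟩

theorem even_of_act {g : G} {f : Fin 8 → Fin 8} (hg : Act φ g f) (h1 : f 1 = 1) :
    (f 2).1 % 2 = 0 := by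
  obtain ⟨x, hx⟩ := h.norm g (hg.comm h1) r0
  obtain ⟨-, -, c3, c4, -⟩ := relC
  have e3 : φ r0 * φ r0 * φ r0 = 1 := by simpa using congrArg φ c3
  have e4 : φ r0 * φ (τ0 2) * φ r0 * φ (τ0 2) * φ r0 * φ (τ0 2) = 1 := by
    simpa [τ0] using congrArg φ c4
  refine even_of_rel x (h.inj ?_) _ (h.inj ?_) <;> simp only [map_mul, map_one, ← hx, ← hg 2]
  · calc _ = g⁻¹ * (φ r0 * φ r0 * φ r0) * g := by group
      _ = 1 := by simp [e3]
  · calc _ = g⁻¹ * (φ r0 * φ (τ0 2) * φ r0 * φ (τ0 2) * φ r0 * φ (τ0 2)) * g := by group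
      _ = 1 := by simp [e4]

theorem isConj_two [Finite G] : IsConj (φ t0) (φ (τ0 2)) := by
  by_contra hn
  have h1 : ∀ i : Fin 8, IsConj (φ t0) (φ (τ0 i)) → i.1 % 2 = 1 := fun i hi => by
    rcases (by decide : ∀ i : Fin 8, i = 0 ∨ i = 2 ∨ ρ0 i = 2 ∨ ρ0 (ρ0 i) = 2 ∨ i.1 % 2 = 1) i
      with rfl | rfl | e | e | e
    · simpa [τ_zero] using h.orderOf_conj hi
    · exact absurd hi hn
    · exact absurd (e ▸ hi.trans (act_r.isConj i)) hn
    · exact absurd (e ▸ (hi.trans (act_r.isConj i)).trans (act_r.isConj _)) hn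
    · exact e
  obtain ⟨s, hs, hc, hne⟩ := h.noniso
  obtain ⟨y, hy⟩ := h.exists_conj_τ hs hc hne
  have h2 : IsConj s ((φ y)⁻¹ * s * φ y) := isConj_iff.2 ⟨(φ y)⁻¹, by simp⟩
  have h3 : IsConj (φ t0) (φ (τ0 3)) := (hy.resolve_left fun e => hn (e ▸ hs.trans h2)) ▸ hs.trans h2
  obtain ⟨n, f, hf, e⟩ := h.exists_act_of_isConj (Or.inr rfl) h3
  have h4 := h.act_lin hf
  obtain ⟨w, -, hw, hw'⟩ := dec_three (f 1) (f 2) (f 4) ((congrFun h4 3).symm.trans e)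
    (h4 ▸ h.act_inj hf) fun i hi => by
      rw [← h4]
      refine h1 _ (IsConj.trans ?_ (hf.isConj i))
      rcases (by decide : ∀ i : Fin 8, i.1 % 2 = 1 → i = 1 ∨ i = 3 ∨ i = ρ0 3 ∨ i = ρ0 (ρ0 3)) i hi
        with rfl | rfl | rfl | rfl
      exacts [IsConj.refl _, h3, h3.trans (act_r.isConj _),
        (h3.trans (act_r.isConj _)).trans (act_r.isConj _)]
  rw [← h4] at hw hw'
  obtain ⟨g, hg⟩ := exists_act_wf hf w
  obtain ⟨k, m, hm, hkm⟩ := Nat.exists_eq_two_pow_mul_odd (orderOf_pos g).ne'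
  have h5 : Act φ (g ^ m) (wf f w) := by
    obtain ⟨l, rfl⟩ := hm
    refine (hg.pow _).congr fun i => ?_
    rw [Function.iterate_add_apply, Function.iterate_one, Function.iterate_mul,
      Function.iterate_fixed (f := (wf f w)^[2]) (hw _)]
  obtain ⟨j, -, hj, hj'⟩ := h.exists_center (P := zpowers (g ^ m) ⊔ TT φ)
    (isPGroup_sup (isPGroup_zpowers ⟨k, by rw [← pow_mul, mul_comm, ← hkm, pow_orderOf_eq_one]⟩)
      isPGroup_TT (zpowers_le.2 h5.mem_normalizer)) le_sup_right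
  have h6 := hw' j (h.τ_inj (by
    rw [← h5, mul_assoc, ← hj' _ (mem_sup_left (mem_zpowers _)), inv_mul_cancel_left]))
  have := h1 j hj
  omega

theorem exists_act_π [Finite G] : ∃ g, Act φ g π1 ∨ Act φ g π2 := by
  obtain ⟨n, f, hf, e⟩ := h.exists_act_of_isConj (Or.inl rfl) h.isConj_two
  have h4 := h.act_lin hf
  rw [e] at h4
  obtain ⟨w, -, hw⟩ := dec_two (f 1) (f 4) (h4 ▸ h.act_inj hf)
  rw [← h4] at hw
  obtain ⟨g, hg⟩ := exists_act_wf hf w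
  rcases hw with e | e | ⟨e1, e2⟩
  · exact ⟨g, Or.inl (e ▸ hg)⟩
  · exact ⟨g, Or.inr (e ▸ hg)⟩
  · have := h.even_of_act hg e1
    omega

theorem exists_act_π1 [Finite G] : ∃ (φ' : KK →* G) (g : G), φ' t0 = φ t0 ∧ WC φ' ∧ Act φ' g π1 := by
  obtain ⟨g, hg | hg⟩ := h.exists_act_π
  · exact ⟨φ, g, rfl, h, hg⟩
  · have e : (φ.comp σ0.toMonoidHom) t0 = φ t0 := congrArg φ σ0_gens.1
    refine ⟨_, g, e, ⟨h.inj.comp σ0.injective, fun s hs hc => ?_, fun c hc y => ?_, e ▸ h.noniso,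
      e ▸ h.cen⟩, fun i => ?_⟩
    · obtain ⟨y, rfl⟩ := h.weak s (e ▸ hs) (e ▸ hc)
      exact ⟨σ0.symm y, by simp⟩
    · obtain ⟨y', hy⟩ := h.norm c (e ▸ hc) (σ0 y)
      exact ⟨σ0.symm y', by simpa using hy⟩
    · change g⁻¹ * φ (σ0 _) * g = φ (σ0 _)
      rw [σ0_τ0, σ0_τ0, hg, (by decide : ∀ i, π2 (lin 1 2 6 i) = lin 1 2 6 (π1 i))]

theorem exists_mul_mem {q : G} (hq : Act φ q π1) {x : G} (hx : x * φ t0 = φ t0 * x) :
    ∃ y, x * φ y ∈ centralizer (φ.range : Set G) := by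
  obtain ⟨-, c2, c3, c4, -, -, c7, c8, c9, -⟩ := relC
  have hc : ∀ {x : G}, x * φ t0 = φ t0 * x → ∀ y, x * φ y * φ t0 = φ t0 * (x * φ y) := fun e y => by
    rw [mul_assoc, ← map_mul, t0_comm, map_mul, ← mul_assoc, e, mul_assoc]
  have hcj : ∀ (x : G) (a b : G), x⁻¹ * a * x * (x⁻¹ * b * x) = x⁻¹ * (a * b) * x := fun x a b => by
    group
  have hne : ∀ {x : G} {y : KK}, x⁻¹ * φ y * x = φ 1 → y = 1 := fun e =>
    h.inj (by simpa [inv_mul_eq_one, mul_assoc] using e)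
  have hm : ∀ {x : G} {a b : KK} (y : KK), x⁻¹ * φ a * x = φ b →
      (x * φ y)⁻¹ * φ a * (x * φ y) = φ (y⁻¹ * b * y) := fun y e => by
    rw [map_mul, map_mul, map_inv, ← e]; group
  obtain ⟨r, hr⟩ := h.norm x hx r0
  obtain rfl | ⟨y1, e1⟩ := aut_r r (h.inj (by simp only [map_mul, ← hr, hcj]; simp [← map_mul, c3]))
  · exact absurd (hne hr) (by decide +kernel)
  replace hr := (hm y1 hr).trans (congrArg φ e1)
  obtain ⟨v, hv⟩ := h.norm _ (hc hx y1) v0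
  obtain rfl | ⟨y2, e2, e3⟩ := aut_v v
    (h.inj (by simp only [map_mul, ← hv, hcj]; simp [← map_mul, c2]))
    (h.inj (by
      rw [map_mul, map_mul, map_mul, map_mul, map_mul, ← hv, ← hr]
      simp only [hcj]; simp [← map_mul, c4]))
  · exact absurd (hne hv) (by decide +kernel)
  replace hr := hm y2 hr
  replace hv := (hm y2 hv).trans (congrArg φ e2)
  have ht := hc (hc hx y1) y2
  set z := x * φ y1 * φ y2 with hz
  rcases e3 with e3 | e3 <;> rw [e3] at hr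
  · obtain ⟨u, hu⟩ := h.norm _ ht u0
    obtain rfl := aut_u u (h.inj (by simp only [map_mul, ← hu, hcj]; simp [← map_mul, c7]))
      (h.inj (by
        rw [map_mul, map_mul, map_mul, map_mul, map_mul, ← hu, ← hv]
        simp only [hcj]; simp [← map_mul, c8]))
      (h.inj (by
        rw [map_mul, map_mul, map_mul, ← hu, ← hr]
        simp only [hcj]; simp [← map_mul, c9]))
    have e : ∀ {a : G}, z⁻¹ * a * z = a → a ∈ centralizer {z} := fun e =>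
      mem_centralizer_singleton_iff.2 (by rw [← mul_inv_cancel_left z (_ * z), ← mul_assoc z⁻¹, e])
    refine ⟨y1 * y2, ?_⟩
    rintro _ ⟨y, rfl⟩
    rw [map_mul, ← mul_assoc x]
    exact mem_centralizer_singleton_iff.1 (map_mem_of_gens
      (mem_centralizer_singleton_iff.2 ht.symm) (e hv) (e hr) (e hu) y)
  · have h1 : Act φ z (lin 1 2 6) := act_of_three
      (by rw [mul_assoc]; exact inv_mul_eq_of_eq_mul ht.symm) hv (by
        change z⁻¹ * φ (r0⁻¹ * v0 * r0) * z = φ (r0 * v0 * r0⁻¹)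
        have e : φ r0 = (z⁻¹ * φ r0 * z)⁻¹ := by rw [hr, map_inv, inv_inv]
        simp only [map_mul, map_inv]
        calc _ = (z⁻¹ * φ r0 * z)⁻¹ * (z⁻¹ * φ v0 * z) * (z⁻¹ * φ r0 * z) := by group
          _ = _ := by rw [← e, hv, hr, map_inv])
    exact absurd (h.even_of_act (((hq.pow 2).mul h1).mul (hq.pow 3)) (by decide)) (by decide)

theorem exists_mul_τ_mem {q : G} (hq : Act φ q π1) {x : G} (hx : Act φ x id) :
    ∃ i, x * φ (τ0 i) ∈ centralizer (φ.range : Set G) := by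
  obtain ⟨y, hy⟩ := h.exists_mul_mem hq (hx.comm (i := 1) rfl)
  obtain ⟨i, rfl⟩ := cent_τ23 y (Or.inl (h.inj (mul_left_cancel (a := x) (by
    rw [map_mul, map_mul, ← mul_assoc, ← hy _ ⟨_, rfl⟩, ← mul_assoc, ← hx.comm rfl, mul_assoc]))))
  exact ⟨i, hy⟩

end WC

theorem act_of_mem_cent {x : G} (hx : x ∈ centralizer (φ.range : Set G)) : Act φ x id := fun i => by
  rw [mul_assoc, hx _ ⟨_, rfl⟩, inv_mul_cancel_left, id]

/-- The elements of `N(T)` acting trivially on `C(T)/T`. -/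
def R0 (φ : KK →* G) : Subgroup G where
  carrier := {g | g ∈ normalizer (TT φ : Set G) ∧ ∀ x, Act φ x id → g⁻¹ * x * g * x⁻¹ ∈ TT φ}
  one_mem' := ⟨one_mem _, fun x _ => by simp⟩
  mul_mem' := fun {a b} ha hb => ⟨mul_mem ha.1 hb.1, fun x hx => by
    have := mul_mem ((mem_normalizer_iff''.1 hb.1 _).1 (ha.2 x hx)) (hb.2 x hx)
    convert this using 1; group⟩
  inv_mem' := fun {a} ha => ⟨inv_mem ha.1, fun x hx => by
    have := (mem_normalizer_iff.1 ha.1 _).1 (inv_mem (ha.2 x hx))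
    convert this using 1; group⟩

theorem Act.conj_id {g x : G} (hg : g ∈ normalizer (TT φ : Set G)) (hx : Act φ x id) :
    Act φ (g⁻¹ * x * g) id := by
  rw [act_id_iff] at hx ⊢
  exact (mem_normalizer_iff''.1 (normalizer_le_normalizer_centralizer _ hg) _).1 hx

theorem conj_mem_R0 {g a : G} (hg : g ∈ normalizer (TT φ : Set G)) (ha : a ∈ R0 φ) :
    g⁻¹ * a * g ∈ R0 φ := ⟨mul_mem (mul_mem (inv_mem hg) ha.1) hg, fun x hx => by
  have := (mem_normalizer_iff''.1 hg _).1 (ha.2 _ (hx.conj_id (inv_mem hg)))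
  convert this using 1; group⟩

/-- The complement to `2 × A₅` in the centralizer of the involution. -/
def AA (φ : KK →* G) (p : G) : Subgroup G := centralizer (φ.range : Set G) ⊓ centralizer {p}

variable {p : G}

theorem AA.comm {a : G} (ha : a ∈ AA φ p) (y : KK) : φ y * a = a * φ y := ha.1 _ ⟨y, rfl⟩

theorem AA.comm_p {a : G} (ha : a ∈ AA φ p) : a * p = p * a := mem_centralizer_singleton_iff.1 ha.2

namespace WC

variable [Finite G] (h : WC φ)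
include h

theorem r_mem_R0 {q : G} (hq : Act φ q π1) : φ r0 ∈ R0 φ := ⟨act_r.mem_normalizer, fun x hx => by
  obtain ⟨i, hi⟩ := h.exists_mul_τ_mem hq hx
  have e : (φ r0)⁻¹ * x * φ r0 * x⁻¹ = φ (τ0 (ρ0 i)) * φ (τ0 i) := by
    calc _ = (φ r0)⁻¹ * (x * φ (τ0 i)) * φ r0 * ((φ r0)⁻¹ * φ (τ0 i) * φ r0)⁻¹ * x⁻¹ := by group
      _ = x * (φ (τ0 i) * φ (τ0 (ρ0 i))) * x⁻¹ := by
        rw [act_r, inv_eq_of_mul_eq_one_left (τ_sq (φ := φ) (ρ0 i)), mul_assoc _ _ (φ r0),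
          ← hi _ ⟨_, rfl⟩]
        group
      _ = _ := by rw [τ_mul, hx.comm rfl, τ_mul, xr_comm, mul_inv_cancel_right]
  rw [e]
  exact mul_mem (τ_mem _) (τ_mem _)⟩

theorem exists_p {q : G} (hq : Act φ q π1) : ∃ p ∈ R0 φ, Act φ p π1 := by
  have h1 := h.r_mem_R0 hq
  exact ⟨_, pow_mem (mul_mem (conj_mem_R0 hq.mem_normalizer (inv_mem h1)) h1) 5, hq.comm_pow⟩

theorem comm_of_mem_R0 (hp : Act φ p π1) {n x : G} (hn : n ∈ R0 φ) (hn' : Act φ n id)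
    (hx : Act φ x id) : n * x = x * n := by
  have h1 : ∀ {n x : G} {k : Fin 8}, Act φ n id → Act φ x id → n⁻¹ * x * n * x⁻¹ = φ (τ0 k) →
      k = 0 ∨ k = 1 := fun {n x k} hn hx e => by
    obtain ⟨i, hi⟩ := h.exists_mul_τ_mem hp hx
    obtain ⟨j, hj⟩ := h.exists_mul_τ_mem hp hn
    have h2 := mul_mem (mul_mem (mul_mem (inv_mem hj) hi) hj) (inv_mem hi)
    have h3 : Act φ (n⁻¹ * x * n) id := ((hn.inv (f' := id) fun _ => rfl).mul hx).mul hn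
    have h4 : (n * φ (τ0 j))⁻¹ * (x * φ (τ0 i)) * (n * φ (τ0 j)) * (x * φ (τ0 i))⁻¹ = φ (τ0 k) := by
      calc _ = (φ (τ0 j))⁻¹ * (n⁻¹ * x * (φ (τ0 i) * n) * φ (τ0 j)) * (x * φ (τ0 i))⁻¹ := by group
        _ = (φ (τ0 j))⁻¹ * ((n⁻¹ * x * n) * (φ (τ0 i) * φ (τ0 j))) * (x * φ (τ0 i))⁻¹ := by
          rw [← hn.comm rfl]; group
        _ = _ := by rw [τ_comm i j, ← mul_assoc _ (φ (τ0 j)), h3.comm rfl, ← e]; group
    rw [h4] at h2
    exact τ_cent_r k (h.inj (by simpa using (h2 _ ⟨r0, rfl⟩).symm))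
  obtain ⟨k, hk⟩ := mem_TT.1 (hn.2 x hx)
  have h2 := h1 hn' hx hk
  have h3 := h1 (k := π1 k) (hn'.conj_id hp.mem_normalizer) (hx.conj_id hp.mem_normalizer)
    (by rw [← hp, ← hk]; group)
  rw [(by decide : ∀ k, k = 0 ∨ k = 1 → π1 k = 0 ∨ π1 k = 1 → k = 0) k h2 h3, τ_zero] at hk
  rw [← mul_inv_cancel_left n (x * n), ← mul_assoc n⁻¹, mul_inv_eq_one.1 hk]

theorem exists_mul_τ_mem_AA (hR : p ∈ R0 φ) (hp : Act φ p π1) {x : G} (hx : Act φ x id) :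
    ∃ i, x * φ (τ0 i) ∈ AA φ p := by
  obtain ⟨k, hk⟩ := mem_TT.1 (hR.2 x hx)
  obtain ⟨i, hi⟩ := (by decide : ∀ k, ∃ i, xr k (π1 i) = i) k
  have h1 : p * (x * φ (τ0 i)) = x * φ (τ0 i) * p := by
    calc _ = p * (x * (φ (τ0 k) * (p⁻¹ * φ (τ0 i) * p))) := by rw [hp, τ_mul, hi]
      _ = p * (φ (τ0 k) * x * (p⁻¹ * φ (τ0 i) * p)) := by rw [← hx.comm rfl]; group
      _ = _ := by rw [← hk]; group
  have h2 : Act φ (x * φ (τ0 i)) id := hx.mul (act_τ i)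
  refine ⟨i, ?_, mem_centralizer_singleton_iff.2 h1.symm⟩
  generalize x * φ (τ0 i) = x at h1 h2
  have hr := h.r_mem_R0 hp
  obtain ⟨m, hm⟩ := mem_TT.1 (hr.2 x h2)
  have h3 : Act φ ((φ r0)⁻¹ * p ^ 2 * φ r0) π1 :=
    (((act_r.inv (f' := ρ0 ∘ ρ0) (by decide)).mul (hp.pow 2)).mul act_r).congr (by decide)
  have h4 := h.comm_of_mem_R0 hp (mul_mem (inv_mem hR) (conj_mem_R0 hr.1 (pow_mem hR 2)))
    (((hp.inv (f' := π1^[6]) (by decide)).mul h3).congr (by decide)) h2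
  have h5 : Commute ((φ r0)⁻¹ * p ^ 2 * φ r0) x := by
    simpa [mul_assoc] using (show Commute p x from h1).mul_left h4
  have h6 : Commute ((φ r0)⁻¹ * p ^ 2 * φ r0) ((φ r0)⁻¹ * x * φ r0) := by
    simpa using ((show Commute p x from h1).pow_left 2).map (MulAut.conj (φ r0)⁻¹)
  have h7 := (h6.mul_right h5.inv_right).eq
  rw [hm] at h7
  have h8 : π1 m = m := h.τ_inj (by rw [← h3, mul_assoc, ← h7, inv_mul_cancel_left])
  rw [(by decide : ∀ j, π1 j = j → j = 0) m h8, τ_zero, mul_inv_eq_one] at hm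
  obtain ⟨j, hj⟩ := h.exists_mul_τ_mem hp h2
  have h9 : φ (τ0 j) * φ r0 = φ r0 * φ (τ0 j) := mul_left_cancel (a := x) (by
    rw [← mul_assoc, ← hj _ ⟨_, rfl⟩, ← mul_assoc, ← mul_assoc, ← hm]
    congr 1
    rw [hm, ← mul_inv_cancel_left (φ r0) (x * φ r0), ← mul_assoc (φ r0)⁻¹, hm])
  rcases τ_cent_r j (h.inj (by simpa using h9)) with rfl | rfl
  · simpa [τ_zero] using hj
  · refine (Subgroup.mul_mem_cancel_right _ ?_).1 hj
    rintro _ ⟨y, rfl⟩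
    rw [← map_mul, ← map_mul]
    exact congrArg φ (t0_comm y)

theorem exists_eq_mul (hR : p ∈ R0 φ) (hp : Act φ p π1) {x : G} (hx : x * φ t0 = φ t0 * x) :
    ∃ y, ∃ a ∈ AA φ p, x = φ y * a := by
  obtain ⟨y, hy⟩ := h.exists_mul_mem hp hx
  obtain ⟨i, hi⟩ := h.exists_mul_τ_mem_AA hR hp (act_of_mem_cent hy)
  exact ⟨(y * τ0 i)⁻¹, _, hi, by rw [AA.comm hi]; simp [mul_assoc]⟩

omit [Finite G] in
theorem eq_one_of_mem_AA (hp : Act φ p π1) {y : KK} (hy : φ y ∈ AA φ p) : y = 1 := by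
  have e : ∀ z, y * z = z * y := fun z => h.inj (by simpa using (AA.comm hy z).symm)
  refine (center_KK y (e _) (e _) (e _)).resolve_right ?_
  rintro rfl
  have h1 := hp 1
  rw [mul_assoc, show φ (τ0 1) * p = _ from AA.comm_p hy, inv_mul_cancel_left] at h1
  exact absurd (h.τ_inj (i := 1) h1) (by decide)

theorem cen_of_mem {H : Subgroup G} (hH : ∀ y, φ y ∈ H) {q : G} (hqH : q ∈ H) (hq : Act φ q π1)
    {P : Subgroup G} (hP : IsPGroup 2 P) (hPH : P ≤ H) :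
    ∃ g ∈ H, ∀ x ∈ P, x * (g * φ t0 * g⁻¹) = g * φ t0 * g⁻¹ * x := by
  obtain ⟨S, hS, hT⟩ := exists_isSyl_ge (isPGroup_TT (φ := φ)) (L := H) fun x hx => by
    obtain ⟨i, rfl⟩ := mem_TT.1 hx
    exact hH _
  obtain ⟨j, hj, -, hc⟩ := h.exists_center hS.pgrp hT
  obtain ⟨k, hk⟩ := hq.exists_pow_conj hj
  obtain ⟨g, hg, h1⟩ := hS.exists_cj_le hP hPH
  refine ⟨g⁻¹ * (q ^ k)⁻¹, mul_mem (inv_mem hg) (inv_mem (pow_mem hqH k)), fun x hx => ?_⟩
  have h2 := hc _ (h1 (conj_mem_cj g hx))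
  rw [← hk] at h2
  calc _ = g⁻¹ * (g * x * g⁻¹ * ((q ^ k)⁻¹ * φ t0 * q ^ k)) * g := by group
    _ = _ := by rw [h2]; group

theorem conj_of_mem {H : Subgroup G} (hH : ∀ y, φ y ∈ H) {q : G} (hqH : q ∈ H) (hq : Act φ q π1)
    {s : G} (hs : IsConj (φ t0) s) (hsH : s ∈ H) : ∃ g ∈ H, g * φ t0 * g⁻¹ = s := by
  obtain ⟨g, hg, h1⟩ := h.cen_of_mem hH hqH hq
    (Inv.isPGroup_zpowers_of_orderOf_two (h.orderOf_conj hs)) (zpowers_le.2 hsH)
  have h2 := h1 s (mem_zpowers s)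
  by_cases h3 : g⁻¹ * s * g = φ t0
  · exact ⟨g, hg, by rw [← h3]; group⟩
  obtain ⟨y, hy⟩ := h.exists_conj_τ (hs.trans (isConj_iff.2 ⟨g⁻¹, by simp⟩)) (by
    calc _ = g⁻¹ * (s * (g * φ t0 * g⁻¹)) * g := by group
      _ = _ := by rw [h2]; group) h3
  obtain ⟨j, hj, e⟩ : ∃ j, j ≠ 0 ∧ (φ y)⁻¹ * (g⁻¹ * s * g) * φ y = φ (τ0 j) :=
    hy.elim (fun e => ⟨2, by decide, e⟩) fun e => ⟨3, by decide, e⟩
  obtain ⟨k, hk⟩ := hq.exists_pow_conj hj
  refine ⟨g * φ y * (q ^ k)⁻¹, mul_mem (mul_mem hg (hH y)) (inv_mem (pow_mem hqH k)), ?_⟩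
  calc _ = g * φ y * ((q ^ k)⁻¹ * φ t0 * q ^ k) * (g * φ y)⁻¹ := by group
    _ = _ := by rw [hk, ← e]; group

end WC

end Cfsg.Agent.JTW
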